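import Cfsg.Agent.OD.Pre
import Cfsg.Agent.H6.Top2
import Cfsg.Agent.H6.HeA.D0
set_option autoImplicit false
set_option maxRecDepth 100000
set_option Elab.async false
set_option linter.all false
namespace CfH6.HeA
open CfH6 MulAction
noncomputable def n0_0 : Net := mkNet (nat_lit 2560) [(nat_lit 1280, k0), (nat_lit 640, k1), (nat_lit 320, k2), (nat_lit 160, k3), (nat_lit 80, k4), (nat_lit 40, k5), (nat_lit 20, k6), (nat_lit 10, k7), (nat_lit 5, k8)] [(k9, nat_lit 1), (k10, nat_lit 1), (k11, nat_lit 1), (k12, nat_lit 1), (k13, nat_lit 1)]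
noncomputable def n0_1 : Net := mkNet (nat_lit 2560) [(nat_lit 1280, k14), (nat_lit 640, k15), (nat_lit 320, k16), (nat_lit 160, k17), (nat_lit 80, k18), (nat_lit 40, k19), (nat_lit 20, k20), (nat_lit 10, k21), (nat_lit 5, k22)] [(k23, nat_lit 1), (k24, nat_lit 1), (k25, nat_lit 1), (k26, nat_lit 1), (k27, nat_lit 1)]
noncomputable def n0_2 : Net := mkNet (nat_lit 2560) [(nat_lit 1280, k28), (nat_lit 640, k29), (nat_lit 320, k30), (nat_lit 160, k31), (nat_lit 80, k32), (nat_lit 40, k33), (nat_lit 20, k34), (nat_lit 10, k35), (nat_lit 5, k36)] [(k37, nat_lit 1), (k38, nat_lit 1), (k39, nat_lit 1), (k40, nat_lit 1), (k41, nat_lit 1)]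
noncomputable def n0_3 : Net := mkNet (nat_lit 2560) [(nat_lit 1280, k42), (nat_lit 640, k43), (nat_lit 320, k44), (nat_lit 160, k45), (nat_lit 80, k46), (nat_lit 40, k47), (nat_lit 20, k48), (nat_lit 10, k49), (nat_lit 5, k50)] [(k51, nat_lit 1), (k52, nat_lit 1), (k53, nat_lit 1), (k54, nat_lit 1), (k55, nat_lit 1)]
noncomputable def n0_4 : Net := mkNet (nat_lit 2560) [(nat_lit 1280, k56), (nat_lit 640, k57), (nat_lit 320, k58), (nat_lit 160, k59), (nat_lit 80, k60), (nat_lit 40, k61), (nat_lit 20, k62), (nat_lit 10, k63), (nat_lit 5, k64)] [(k65, nat_lit 1), (k66, nat_lit 1), (k67, nat_lit 1), (k68, nat_lit 1), (k69, nat_lit 1)]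
noncomputable def n0_5 : Net := mkNet (nat_lit 2560) [(nat_lit 1280, k70), (nat_lit 640, k71), (nat_lit 320, k72), (nat_lit 160, k73), (nat_lit 80, k74), (nat_lit 40, k75), (nat_lit 20, k76), (nat_lit 10, k77), (nat_lit 5, k78)] [(k79, nat_lit 1), (k80, nat_lit 1), (k81, nat_lit 1), (k82, nat_lit 1), (k83, nat_lit 1)]
noncomputable def n0_6 : Net := mkNet (nat_lit 2560) [(nat_lit 1280, k84), (nat_lit 640, k85), (nat_lit 320, k86), (nat_lit 160, k87), (nat_lit 80, k88), (nat_lit 40, k89), (nat_lit 20, k90), (nat_lit 10, k91), (nat_lit 5, k92)] [(k93, nat_lit 1), (k94, nat_lit 1), (k95, nat_lit 1), (k96, nat_lit 1), (k97, nat_lit 1)]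
noncomputable def n1_5 : Net := mkNet (nat_lit 2560) [(nat_lit 1280, k98), (nat_lit 640, k99), (nat_lit 320, k100), (nat_lit 160, k101), (nat_lit 80, k102), (nat_lit 40, k103), (nat_lit 20, k104), (nat_lit 10, k105), (nat_lit 5, k106)] [(k107, nat_lit 1), (k108, nat_lit 1), (k109, nat_lit 1), (k110, nat_lit 1), (k111, nat_lit 1)]
noncomputable def n1_6 : Net := mkNet (nat_lit 2560) [(nat_lit 1280, k112), (nat_lit 640, k113), (nat_lit 320, k114), (nat_lit 160, k115), (nat_lit 80, k116), (nat_lit 40, k117), (nat_lit 20, k118), (nat_lit 10, k119), (nat_lit 5, k120)] [(k121, nat_lit 1), (k122, nat_lit 1), (k123, nat_lit 1), (k124, nat_lit 1), (k125, nat_lit 1)]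
noncomputable def n2_0 : Net := mkNet (nat_lit 40) [(nat_lit 20, (nat_lit 0x8000080000)), (nat_lit 10, (nat_lit 0x4050090240)), (nat_lit 5, (nat_lit 0xc63ce94000))] [((nat_lit 0x1000084a0), nat_lit 1), ((nat_lit 0x284212848), nat_lit 1), ((nat_lit 0x10a0090a0), nat_lit 1), ((nat_lit 0x284002800), nat_lit 1), ((nat_lit 0x400), nat_lit 1)]
noncomputable def n2_1 : Net := mkNet (nat_lit 40) [(nat_lit 20, (nat_lit 0x8000080000)), (nat_lit 10, (nat_lit 0x8120400000)), (nat_lit 5, (nat_lit 0x842a049b52))] [((nat_lit 0x14a508020), nat_lit 1), ((nat_lit 0x214a1094a), nat_lit 1), ((nat_lit 0x10a500484), nat_lit 1), ((nat_lit 0x14a0014a), nat_lit 1), ((nat_lit 0xa500020), nat_lit 1)]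
noncomputable def n2_2 : Net := mkNet (nat_lit 40) [(nat_lit 20, (nat_lit 0x891f4891f4)), (nat_lit 10, (nat_lit 0xd9f6006018)), (nat_lit 5, (nat_lit 0x21042042))] [((nat_lit 0x2002020020), nat_lit 1), ((nat_lit 0x501480294a), nat_lit 1), ((nat_lit 0x2808001420), nat_lit 1), ((nat_lit 0x5014002800), nat_lit 1), ((nat_lit 0x2002000000), nat_lit 1)]
noncomputable def n2_3 : Net := mkNet (nat_lit 40) [(nat_lit 20, (nat_lit 0x2df502df50)), (nat_lit 10, (nat_lit 0x298125a168)), (nat_lit 5, (nat_lit 0x2014cce200))] [((nat_lit 0x140520004), nat_lit 1), ((nat_lit 0x210a12800), nat_lit 1), ((nat_lit 0x100520000), nat_lit 1)]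
noncomputable def n2_4 : Net := mkNet (nat_lit 40) [(nat_lit 20, (nat_lit 0x2cd742c144)), (nat_lit 10, (nat_lit 0x2c0b00d238)), (nat_lit 5, (nat_lit 0x281f01e210))] [((nat_lit 0x8501084), nat_lit 1), ((nat_lit 0x294a52848), nat_lit 1), ((nat_lit 0x10a421080), nat_lit 1), ((nat_lit 0x290212000), nat_lit 1)]
noncomputable def n2_5 : Net := mkNet (nat_lit 40) [(nat_lit 20, (nat_lit 0xfb1befb3be)), (nat_lit 10, (nat_lit 0x80c6e2c0b0)), (nat_lit 5, (nat_lit 0x6228438884))] [((nat_lit 0x148400484), nat_lit 1), ((nat_lit 0x1094212842), nat_lit 1), ((nat_lit 0x294a409404), nat_lit 1), ((nat_lit 0x4004802008), nat_lit 1)]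
noncomputable def n3_0 : Net := mkNet (nat_lit 12) [(nat_lit 6, (nat_lit 0xf0c)), (nat_lit 3, (nat_lit 0x224))] [((nat_lit 0x8), nat_lit 1), ((nat_lit 0x10), nat_lit 1), ((nat_lit 0x8), nat_lit 1)]
noncomputable def n3_1 : Net := mkNet (nat_lit 12) [(nat_lit 6, (nat_lit 0x704)), (nat_lit 3, (nat_lit 0x920))] [((nat_lit 0x40), nat_lit 1), ((nat_lit 0x80), nat_lit 1), ((nat_lit 0x40), nat_lit 1)]
noncomputable def n3_2 : Net := mkNet (nat_lit 12) [(nat_lit 6, (nat_lit 0x104)), (nat_lit 3, (nat_lit 0x920))] [((nat_lit 0x248), nat_lit 1), ((nat_lit 0x80), nat_lit 1), ((nat_lit 0x40), nat_lit 1)]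
noncomputable def n4_0 : Net := mkNet (nat_lit 8) [(nat_lit 4, (nat_lit 0)), (nat_lit 2, (nat_lit 0x40))] []
noncomputable def n4_1 : Net := mkNet (nat_lit 8) [(nat_lit 4, (nat_lit 0)), (nat_lit 2, (nat_lit 0x40))] [((nat_lit 0x10), nat_lit 1)]
noncomputable def n5_0 : Net := mkNet (nat_lit 8) [(nat_lit 4, (nat_lit 0)), (nat_lit 2, (nat_lit 0xa0))] [((nat_lit 0x40), nat_lit 1)]
noncomputable def nets0 : List Net := [n0_0, n0_1, n0_2, n0_3, n0_4, n0_5, n0_6]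
noncomputable def nets1 : List Net := [n0_0, n0_2, n0_3, n0_4, n0_5, n1_5, n1_6]
def ws1 : List (List ℕ) := [[0],
  [2],
  [3],
  [4],
  [5],
  [0, 1, 0, 1],
  [1, 2, 3, 4, 1, 2, 3, 4, 1, 2, 3, 4, 1, 2, 3, 4, 1, 2, 3, 4, 1, 2, 3, 4, 1, 2, 3, 4]]
noncomputable def nets2 : List Net := [n2_0, n2_1, n2_2, n2_3, n2_4, n2_5]
def ws2 : List (List ℕ) := [[0],
  [2],
  [3],
  [4],
  [5],
  [6]]
noncomputable def nets3 : List Net := [n3_0, n3_1, n3_2]
def ws3 : List (List ℕ) := [[4, 5, 3, 5, 1, 3, 5, 3],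
  [4, 2, 3],
  [0]]
noncomputable def nets4 : List Net := [n4_0, n4_1]
def ws4 : List (List ℕ) := [[0, 2, 1, 0],
  [1, 2, 0, 2]]
noncomputable def nets5 : List Net := [n5_0]
def ws5 : List (List ℕ) := [[0, 1, 0, 0]]
def sig : List (List ℕ) := [[0],
  [1],
  [2],
  [3],
  [4],
  [5],
  [6]]
def eqs0 : List (List ℕ × List ℕ) := [([0, 0], []),
  ([1, 1], []),
  ([2, 2], []),
  ([3, 3], []),
  ([4, 4], []),
  ([5, 5], []),
  ([6, 6], []),
  ([0, 1, 0, 1], [1, 0, 1, 0]),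
  ([0, 2], [2, 0]),
  ([0, 3], [3, 0]),
  ([0, 4], [4, 0]),
  ([0, 5], [5, 0]),
  ([0, 6], [6, 0]),
  ([1, 2, 1], [2, 1, 2]),
  ([1, 3], [3, 1]),
  ([1, 4], [4, 1]),
  ([1, 5], [5, 1]),
  ([1, 6], [6, 1]),
  ([2, 3, 2, 3, 2, 3, 2, 3, 2, 3], [3, 2, 3, 2, 3, 2, 3, 2, 3, 2]),
  ([2, 4], [4, 2]),
  ([2, 5], [5, 2]),
  ([2, 6], [6, 2]),
  ([3, 4, 3], [4, 3, 4]),
  ([3, 5, 3], [5, 3, 5]),
  ([3, 6, 3], [6, 3, 6]),
  ([4, 5], [5, 4]),
  ([4, 6], [6, 4]),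
  ([5, 6, 5, 6], [6, 5, 6, 5]),
  ([4, 6, 5], [5, 6]),
  ([4, 2, 1, 0, 2], [0, 1, 2, 0, 1]),
  ([0, 3, 2, 3, 2, 3], [2, 3, 2, 3, 2]),
  ([2, 3, 5, 6, 2, 3, 5, 6], [6, 5, 3, 2, 6, 5, 3, 2])]
def eqs : List (List ℕ × List ℕ) := eqs0
def lU : List (ℕ × ℕ) := [(0, 7), (8, 25), (40, 2026)]
noncomputable def U : ℕ := ivls lU
def l1 : List (ℕ × ℕ) := [(1, 1), (40, 1359)]
noncomputable def S1 : ℕ := ivls l1
def w1 : List ℕ := [1]
def l2 : List (ℕ × ℕ) := [(2, 5), (8, 25), (1399, 395)]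
noncomputable def S2 : ℕ := ivls l2
def w2 : List ℕ := [6]
def l3 : List (ℕ × ℕ) := [(1794, 136)]
noncomputable def S3 : ℕ := ivls l3
def w3 : List ℕ := [6, 3, 2, 3, 2, 1]
def l4 : List (ℕ × ℕ) := [(1930, 136)]
noncomputable def S4 : ℕ := ivls l4
def w4 : List ℕ := [6, 3, 1, 2, 3, 6]
noncomputable def J : List (List ℕ × ℕ × ℕ) := [(w1, 1, S1), (w2, 1399, S2), (w3, 1794, S3), (w4, 1930, S4)]
def lBig : List (ℕ × ℕ) := [(1, 1), (40, 1359)]
noncomputable def J4 : List (List ℕ × ℕ × ℕ) := [([0, 5, 2, 0, 0, 4, 0], 1, S1)]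
noncomputable def J3 : List (List ℕ × ℕ × ℕ) := [([0, 0, 5, 0, 5, 4, 0], 1, S1)]
noncomputable def J2 : List (List ℕ × ℕ × ℕ) := [([0, 7, 3, 5, 3, 0, 7, 5, 3, 0], 1, S1)]
noncomputable def J1 : List (List ℕ × ℕ × ℕ) := [([0], 1, S1)]
def ex : List (List ℕ) := [[3, 5, 6]]
def bs' : List ℕ := [0, 1, 2, 3, 4, 5]
end CfH6.HeA
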